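import Groth.Agent.Etbc.H228.LowEdge
import Groth.Agent.Sga4B.HpullSquare

/-!
# Truncated Leray for `EtCore.Hpull`

If `F ⟶ f_* f⁻¹ F` is an isomorphism and `R^q f_* (f⁻¹ F) = 0` for `1 ≤ q ≤ n` then
`EtCore.Hpull f F q` is bijective for `q ≤ n` and injective for `q = n + 1`.
-/

set_option autoImplicit false
universe u

open CategoryTheory CategoryTheory.Limits AlgebraicGeometry Opposite CategoryTheory.Abelian

namespace Groth.Agent.Etbc.H228.CompLow

open Groth.Agent.Etbc.H228.LowEdge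

variable {X Y : Scheme.{u}}

/-- Truncated Leray for `EtCore.Hpull`. -/
theorem Hpull_low (f : X ⟶ Y) [PreservesFiniteLimits (EtCoh.pull f)] (F : EtCoh.Ab Y)
    [IsIso ((EtCoh.pullPushAdj f).unit.app F)] (n : ℕ)
    (h : ∀ q : ℕ, 1 ≤ q → q ≤ n → IsZero ((EtCoh.Rpush f q).obj ((EtCoh.pull f).obj F))) :
    (∀ q : ℕ, q ≤ n → Function.Bijective (EtCore.Hpull f F q)) ∧
      Function.Injective (EtCore.Hpull f F (n + 1)) :=
  cmp_low (EtCoh.pullPushAdj f) (EtCore.pullConst f ℤ).inv F n h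

end Groth.Agent.Etbc.H228.CompLow
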