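import Groth.Agent.Etbc.H228.Converse

/-!
# `Converse` in terms of `EtCore.Hpull`

For `f : X ⟶ Y` and `F : EtCoh.Ab Y` (single sheaf), with hypotheses only for affine étale `W → Y`:

* `isIso_unit_of_affine`
* `isZero_Rpush_of_affine`
-/

set_option autoImplicit false
universe u
open CategoryTheory CategoryTheory.Limits AlgebraicGeometry Opposite

namespace Groth.Agent.Etbc.H228.ConverseH

open Groth.Agent.Etbc.H228.Converse

variable {X Y : Scheme.{u}} (f : X ⟶ Y) (F : EtCoh.Ab Y)

theorem bijective_cW_of_Hpull (W : Y.Etale) (n : ℕ)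
    [PreservesFiniteLimits (EtCoh.pull (pullback.fst W.hom f))]
    (h : Function.Bijective (EtCore.Hpull (pullback.fst W.hom f) ((EtCoh.pull W.hom).obj F) n)) :
    Function.Bijective (cW f F W n) :=
  (bijective_cW_iff f F W n).2 h

theorem surjective_cW_of_Hpull (W : Y.Etale) (n : ℕ)
    [PreservesFiniteLimits (EtCoh.pull (pullback.fst W.hom f))]
    (h : Function.Surjective (EtCore.Hpull (pullback.fst W.hom f) ((EtCoh.pull W.hom).obj F) n)) :
    Function.Surjective (cW f F W n) :=
  (surjective_cW_iff f F W n).2 h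

theorem isIso_unit_of_Hpull {B : Y.Etale → Prop} (hB : Cofinal B)
    (h : ∀ W : Y.Etale, B W → ∀ [PreservesFiniteLimits (EtCoh.pull (pullback.fst W.hom f))],
      Function.Bijective (EtCore.Hpull (pullback.fst W.hom f) ((EtCoh.pull W.hom).obj F) 0)) :
    IsIso ((EtCoh.pullPushAdj f).unit.app F) :=
  isIso_unit_of_cofinal f hB F fun W hW =>
    have := Groth.Agent.S0101.result (pullback.fst W.hom f)
    bijective_cW_of_Hpull f F W 0 (h W hW)

theorem isZero_Rpush_of_Hpull {B : Y.Etale → Prop} (hB : Cofinal B) (m : ℕ)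
    (h : ∀ W : Y.Etale, B W → ∀ [PreservesFiniteLimits (EtCoh.pull (pullback.fst W.hom f))],
      Function.Surjective (EtCore.Hpull (pullback.fst W.hom f) ((EtCoh.pull W.hom).obj F) (m + 1))) :
    IsZero ((EtCoh.Rpush f (m + 1)).obj ((EtCoh.pull f).obj F)) :=
  isZero_Rpush_of_cofinal f hB F m fun W hW =>
    have := Groth.Agent.S0101.result (pullback.fst W.hom f)
    surjective_cW_of_Hpull f F W (m + 1) (h W hW)

/-- If `H^0(W, F) → H^0(X ×_Y W, f⁻¹ F)` is bijective for all affine étale `W → Y` then the unit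
`F ⟶ f_* f⁻¹ F` is an isomorphism. -/
theorem isIso_unit_of_affine
    (h : ∀ W : Y.Etale, IsAffine W.left → ∀ [PreservesFiniteLimits (EtCoh.pull (pullback.fst W.hom f))],
      Function.Bijective (EtCore.Hpull (pullback.fst W.hom f) ((EtCoh.pull W.hom).obj F) 0)) :
    IsIso ((EtCoh.pullPushAdj f).unit.app F) :=
  isIso_unit_of_Hpull f F cofinal_affine h

/-- If `H^{m+1}(W, F) → H^{m+1}(X ×_Y W, f⁻¹ F)` is surjective for all affine étale `W → Y` then
`R^{m+1} f_* f⁻¹ F = 0`. -/
theorem isZero_Rpush_of_affine (m : ℕ)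
    (h : ∀ W : Y.Etale, IsAffine W.left → ∀ [PreservesFiniteLimits (EtCoh.pull (pullback.fst W.hom f))],
      Function.Surjective (EtCore.Hpull (pullback.fst W.hom f) ((EtCoh.pull W.hom).obj F) (m + 1))) :
    IsZero ((EtCoh.Rpush f (m + 1)).obj ((EtCoh.pull f).obj F)) :=
  isZero_Rpush_of_Hpull f F cofinal_affine m h

end Groth.Agent.Etbc.H228.ConverseH
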