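import Groth.Agent.Etbc.H228.IsoComp
import Groth.Agent.Etbc.H228.ConverseH
import Groth.Agent.Etbc.H228.CompLow

/-!
# `n`-acyclic morphisms: the two forms

* `Form f L n`: for every `L`-torsion `F` on the target the unit `F ⟶ f_* f⁻¹ F` is an isomorphism and
  `R^q f_* f⁻¹ F = 0` for `1 ≤ q ≤ n`.
* `compN_of_form`: `Form f L n → CompN f L n`.
* `form_of_compN_etale`: if `CompN` holds for the base change of `f` to all affine étale `W → Y`, then
  `Form f L n`.
* `isAcyclicN_iff_form`: `IsAcyclicN g L n ↔ ∀ V, Form (prj g V) L n`.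
* `isAcyclicN_of_affine`: affine `V` are enough.
-/

set_option autoImplicit false
universe u
open CategoryTheory CategoryTheory.Limits AlgebraicGeometry Opposite

namespace Groth.Agent.Etbc.H228.AcycIff

open Groth.Agent.Etbc.H228 Groth.Agent.Etbc.H228.Converse

variable {X Y : Scheme.{u}}

/-- Form (i) of `n`-acyclicity for a single morphism. -/
def Form (f : X ⟶ Y) (L : Set ℕ) (n : ℕ) : Prop :=
  ∀ F : EtCoh.Ab Y, EtAcyc.IsLTorsion L F → IsIso ((EtCoh.pullPushAdj f).unit.app F) ∧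
    ∀ q : ℕ, 1 ≤ q → q ≤ n → IsZero ((EtCoh.Rpush f q).obj ((EtCoh.pull f).obj F))

theorem compN_of_form {f : X ⟶ Y} {L : Set ℕ} {n : ℕ} (h : Form f L n) : EtAcyc.CompN f L n := by
  intro F hF _
  obtain ⟨h0, h1⟩ := h F hF
  exact CompLow.Hpull_low f F n h1

/-- Affine étale `W → Y` are enough. -/
theorem form_of_compN_cofinal {B : Y.Etale → Prop} (hB : Cofinal B) {f : X ⟶ Y} {L : Set ℕ} {n : ℕ}
    (h : ∀ W : Y.Etale, B W → EtAcyc.CompN (pullback.fst W.hom f) L n) : Form f L n := by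
  intro F hF
  refine ⟨ConverseH.isIso_unit_of_Hpull f F hB fun W hW _ =>
    (h W hW _ (IsoComp.isLTorsion_pull W.hom L F hF)).1 0 (Nat.zero_le n), ?_⟩
  intro q hq hqn
  obtain ⟨m, rfl⟩ : ∃ m, q = m + 1 := ⟨q - 1, by omega⟩
  exact ConverseH.isZero_Rpush_of_Hpull f F hB m fun W hW _ =>
    ((h W hW _ (IsoComp.isLTorsion_pull W.hom L F hF)).1 (m + 1) hqn).2

variable {g : X ⟶ Y} {L : Set ℕ} {n : ℕ}

/-- The comparison condition for the projection from `W ×_V (V ×_Y X)`. -/
theorem compN_prj_prj (V : Y.Etale) (W : V.left.Etale)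
    (h : EtAcyc.CompN (EtAcyc.prj g (Scheme.Etale.mk (W.hom ≫ V.hom))) L n) :
    EtAcyc.CompN (pullback.fst W.hom (EtAcyc.prj g V)) L n :=
  IsoComp.compN_of_iso_comp (e := (pullbackRightPullbackFstIso V.hom g W.hom).hom)
    (pullbackRightPullbackFstIso_hom_fst V.hom g W.hom) h

/-- `n`-acyclicity may be checked on affine étale `V → Y`. -/
theorem form_prj_of_affine
    (h : ∀ V : Y.Etale, IsAffine V.left → EtAcyc.CompN (EtAcyc.prj g V) L n) (V : Y.Etale) :
    Form (EtAcyc.prj g V) L n :=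
  form_of_compN_cofinal cofinal_affine fun W hW => compN_prj_prj V W (h _ hW)

theorem isAcyclicN_of_affine
    (h : ∀ V : Y.Etale, IsAffine V.left → EtAcyc.CompN (EtAcyc.prj g V) L n) :
    EtAcyc.IsAcyclicN g L n :=
  fun V => compN_of_form (form_prj_of_affine h V)

theorem isAcyclicN_iff_form :
    EtAcyc.IsAcyclicN g L n ↔ ∀ V : Y.Etale, Form (EtAcyc.prj g V) L n :=
  ⟨fun h V => form_prj_of_affine (fun V _ => h V) V, fun h V => compN_of_form (h V)⟩

end Groth.Agent.Etbc.H228.AcycIff
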