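import Groth.Agent.Etcore.RpushLoc
import Groth.Agent.Etbase.EtSite
import Groth.Agent.Etrest.Site0

/-!
# From comparison of cohomology on étale `W → Y` to the unit and the higher direct images

For `f : X ⟶ Y` and `F : EtCoh.Ab Y`:

* `isIso_of_bijective_cofinal`: a morphism of sheaves which is bijective on a cofinal system of étale
  schemes is an isomorphism (also mono / injective).
* `exists_res_eq_zero`: positive degree classes in `H^n(W, F)` die étale locally on `W`.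
* `isIso_unit_of_cofinal`, `isIso_unit_of_affine`: if `H^0(W, F) → H^0(X ×_Y W, f⁻¹ F)` is bijective for all
  affine étale `W → Y`, the unit `F ⟶ f_* f⁻¹ F` is an isomorphism.
* `isZero_Rpush_of_cofinal`, `isZero_Rpush_of_affine`: if `H^{m+1}(W, F) → H^{m+1}(X ×_Y W, f⁻¹ F)` is surjective for
  all affine étale `W → Y` then `R^{m+1} f_* (f⁻¹ F) = 0`.

All comparison maps are `EtCore.Hpull (pullback.fst W.hom f) ((EtCoh.pull W.hom).obj F) q`.
-/

set_option autoImplicit false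
universe u
open CategoryTheory CategoryTheory.Limits AlgebraicGeometry Opposite Abelian
open scoped Groth.Agent.Etcore.EtInst
open Groth.Agent.Etcore.EtInst

namespace Groth.Agent.Etbc.H228.Converse

open Groth.Agent Groth.Agent.Etcore.HQ Groth.Agent.Etcore.RpushLoc Groth.Agent.Etcore.HpullCalc
open Groth.Agent.Etcore.PullCoh

attribute [local instance] pfl

variable {X Y : Scheme.{u}}

/-! ### Cofinal systems -/

/-- A class of étale `Y`-schemes such that every point of every étale `Y`-scheme has a neighbourhood in the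
class. -/
def Cofinal (B : Y.Etale → Prop) : Prop :=
  ∀ (W : Y.Etale) (w : W.left), ∃ (W' : Y.Etale) (k : W' ⟶ W) (w' : W'.left), k.left w' = w ∧ B W'

theorem cofinal_true : Cofinal (fun _ : Y.Etale => True) :=
  fun W w => ⟨W, 𝟙 W, w, rfl, trivial⟩

/-- The affine étale `Y`-schemes are cofinal. -/
theorem cofinal_affine : Cofinal (fun W : Y.Etale => IsAffine W.left) := by
  intro W w
  obtain ⟨V, g, hV, -, v, hv⟩ := Etrest.Site0.exists_affine W w
  exact ⟨V, g, v, hv, hV⟩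

theorem mono_of_injective_cofinal {B : Y.Etale → Prop} (hB : Cofinal B) {F G : EtCoh.Ab Y}
    (φ : F ⟶ G) (h : ∀ W : Y.Etale, B W → Function.Injective (φ.hom.app (op W))) : Mono φ := by
  have h1 : ∀ (U : Y.Etale) (s : EtCoh.sect F U), φ.hom.app (op U) s = 0 → s = 0 := by
    intro U s hs
    refine Etbase.EtSite.sect_eq_zero F U s fun x => ?_
    obtain ⟨W, k, w, hw, hW⟩ := hB U x
    refine ⟨W, k, w, hw, h W hW ?_⟩
    have h2 : φ.hom.app (op W) (F.obj.map k.op s) = G.obj.map k.op (φ.hom.app (op U) s) :=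
      ConcreteCategory.congr_hom (φ.hom.naturality k.op) s
    rw [h2, hs, map_zero, map_zero]
  have h3 : Sheaf.IsLocallyInjective φ :=
    ⟨fun {U} s t hst => by
      have h4 : s = t := by
        rw [← sub_eq_zero]
        refine h1 U.unop (s - t) ?_
        rw [map_sub, sub_eq_zero]
        exact hst
      subst h4
      refine Y.smallEtaleTopology.superset_covering ?_ (Y.smallEtaleTopology.top_mem _)
      intro V g _
      rfl⟩
  exact Sheaf.mono_of_isLocallyInjective φ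

theorem isIso_of_bijective_cofinal {B : Y.Etale → Prop} (hB : Cofinal B) {F G : EtCoh.Ab Y}
    (φ : F ⟶ G) (h : ∀ W : Y.Etale, B W → Function.Bijective (φ.hom.app (op W))) : IsIso φ := by
  have h1 := mono_of_injective_cofinal hB φ fun W hW => (h W hW).1
  have h2 : Epi φ := by
    rw [EtpbcA.StalkTools.epi_iff_locIm]
    intro U s x
    obtain ⟨W, k, w, hw, hW⟩ := hB U x
    obtain ⟨t, ht⟩ := (h W hW).2 (G.obj.map k.op s)
    exact ⟨W, k, w, hw, t, ht⟩
  exact isIso_of_mono_of_epi φ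

/-! ### Positive degree classes die locally -/

theorem exists_res_eq_zero (n : ℕ) (F : EtCoh.Ab Y) (W : Y.Etale) (ξ : HQ F W.hom (n + 1))
    (w : W.left) : ∃ (W' : Y.Etale) (k : W' ⟶ W) (w' : W'.left), k.left w' = w ∧
      res F k.left (EtpbcB.Big.et_w k) (n + 1) ξ = 0 := by
  induction n generalizing F with
  | zero =>
    obtain ⟨η, hη⟩ := exists_δ_eq (injSeq_shortExact F) W.hom 0 ξ
      (eq_zero_of_injective (injSeq F).X₂ W.hom 0 _)
    obtain ⟨s, rfl⟩ := (sec_bijective (injSeq F).X₃ W).2 η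
    have hepi : Epi (injSeq F).g := (injSeq_shortExact F).epi_g
    obtain ⟨W', k, w', hw', t, ht⟩ := (EtpbcA.StalkTools.epi_iff_locIm (injSeq F).g).1 hepi W s w
    refine ⟨W', k, w', hw', ?_⟩
    have e1 : res (injSeq F).X₃ k.left (EtpbcB.Big.et_w k) 0
        (sec (injSeq F).X₃ W.hom (𝟙 W.left) (Category.id_comp _) s) =
        map (injSeq F).g W'.hom 0 (sec (injSeq F).X₂ W'.hom (𝟙 W'.left) (Category.id_comp _) t) := by
      rw [map_sec, ht]
      exact (res_sec (injSeq F).X₃ k.left (EtpbcB.Big.et_w k) (𝟙 W.left) (Category.id_comp _) k.left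
        (EtpbcB.Big.et_w k) (Category.comp_id _) s).trans
        (sec_res (injSeq F).X₃ W'.hom (𝟙 W'.left) (Category.id_comp _) k k.left
          (EtpbcB.Big.et_w k) (Category.id_comp _) s).symm
    have e2 := res_δ (injSeq_shortExact F) k.left (EtpbcB.Big.et_w k) 0
      (sec (injSeq F).X₃ W.hom (𝟙 W.left) (Category.id_comp _) s)
    rw [hη] at e2
    refine e2.trans ?_
    rw [e1]
    exact δ_map (injSeq_shortExact F) W'.hom 0 _
  | succ n ih =>
    obtain ⟨η, hη⟩ := exists_δ_eq (injSeq_shortExact F) W.hom (n + 1) ξ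
      (eq_zero_of_injective (injSeq F).X₂ W.hom (n + 1) _)
    obtain ⟨W', k, w', hw', h0⟩ := ih (injSeq F).X₃ η
    refine ⟨W', k, w', hw', ?_⟩
    have e2 := res_δ (injSeq_shortExact F) k.left (EtpbcB.Big.et_w k) (n + 1) η
    rw [hη, h0, map_zero] at e2
    exact e2

/-! ### The projections -/

variable (f : X ⟶ Y)

/-- The projection `X ×_Y W ⟶ W`. -/
noncomputable def pW (W : Y.Etale) : ((EtCoh.bc f).obj W).left ⟶ W.left := pullback.fst W.hom f

theorem pW_hom (W : Y.Etale) : pW f W ≫ W.hom = pr f W ≫ f := pullback.condition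

theorem mm_pW {W W' : Y.Etale} (k : W' ⟶ W) : mm f k ≫ pW f W = pW f W' ≫ k.left :=
  (EtCoh.isPullback_bc_map f k).w

/-- The comparison map `H^n(W, F) → H^n(X ×_Y W, F)`. -/
noncomputable def cW (F : EtCoh.Ab Y) (W : Y.Etale) (n : ℕ) : HQ F W.hom n →+ HQ F (pr f W ≫ f) n :=
  res F (pW f W) (pW_hom f W) n

theorem cW_res (F : EtCoh.Ab Y) {W W' : Y.Etale} (k : W' ⟶ W) (n : ℕ) (x : HQ F W.hom n)
    (h : mm f k ≫ pr f W ≫ f = pr f W' ≫ f) :
    res F (mm f k) h n (cW f F W n x) = cW f F W' n (res F k.left (EtpbcB.Big.et_w k) n x) := by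
  have e : (pW f W' ≫ k.left) ≫ W.hom = pr f W' ≫ f := by
    rw [Category.assoc, EtpbcB.Big.et_w, pW_hom]
  rw [cW, cW, res_res F (pW f W) (pW_hom f W) (mm f k) h (pW f W' ≫ k.left) (mm_pW f k) e,
    res_res F k.left (EtpbcB.Big.et_w k) (pW f W') (pW_hom f W') (pW f W' ≫ k.left) rfl e]

theorem coe_cW (F : EtCoh.Ab Y) (W : Y.Etale) (n : ℕ) :
    ⇑(cW f F W n) = ⇑(HHmap (th (pW f W) W.hom (pr f W ≫ f) (pW_hom f W) F) n) ∘
      ⇑(hp (pW f W) ((EtCoh.pull W.hom).obj F) n) := by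
  funext x
  rw [cW, res_apply]
  rfl

theorem surjective_cW_iff (F : EtCoh.Ab Y) (W : Y.Etale) (n : ℕ) :
    Function.Surjective (cW f F W n) ↔
      Function.Surjective (hp (pW f W) ((EtCoh.pull W.hom).obj F) n) := by
  rw [coe_cW]
  exact Function.Surjective.of_comp_iff' (HHmap_bijective _ n) _

theorem injective_cW_iff (F : EtCoh.Ab Y) (W : Y.Etale) (n : ℕ) :
    Function.Injective (cW f F W n) ↔
      Function.Injective (hp (pW f W) ((EtCoh.pull W.hom).obj F) n) := by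
  rw [coe_cW]
  exact Function.Injective.of_comp_iff (HHmap_bijective _ n).1 _

theorem bijective_cW_iff (F : EtCoh.Ab Y) (W : Y.Etale) (n : ℕ) :
    Function.Bijective (cW f F W n) ↔
      Function.Bijective (hp (pW f W) ((EtCoh.pull W.hom).obj F) n) :=
  (injective_cW_iff f F W n).and (surjective_cW_iff f F W n)

/-! ### Vanishing of the higher direct images -/

/-- `H^n(X ×_Y W, f⁻¹ F)` for the two ways of pulling back. -/
noncomputable def cmpP (F : EtCoh.Ab Y) (W : Y.Etale) (n : ℕ) :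
    HQ ((EtCoh.pull f).obj F) (pr f W) n →+ HQ F (pr f W ≫ f) n :=
  HHmap (th (pr f W) f (pr f W ≫ f) rfl F) n

theorem cmpP_bijective (F : EtCoh.Ab Y) (W : Y.Etale) (n : ℕ) :
    Function.Bijective (cmpP f F W n) := HHmap_bijective _ n

theorem res_cmpP (F : EtCoh.Ab Y) {W W' : Y.Etale} (k : W' ⟶ W) (n : ℕ)
    (h : mm f k ≫ pr f W ≫ f = pr f W' ≫ f) (x : HQ ((EtCoh.pull f).obj F) (pr f W) n) :
    res F (mm f k) h n (cmpP f F W n x) =
      cmpP f F W' n (res ((EtCoh.pull f).obj F) (mm f k) (mm_pr f k) n x) := by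
  rw [res_apply, res_apply, cmpP, cmpP, hp_map, ← HHmap_comp, ← HHmap_comp,
    th_assoc (mm f k) (pr f W) f (pr f W') (pr f W ≫ f) (pr f W' ≫ f) (mm_pr f k) rfl h rfl F]

theorem isZero_Rpush_of_cofinal {B : Y.Etale → Prop} (hB : Cofinal B) (F : EtCoh.Ab Y) (m : ℕ)
    (h : ∀ W : Y.Etale, B W → Function.Surjective (cW f F W (m + 1))) :
    IsZero ((EtCoh.Rpush f (m + 1)).obj ((EtCoh.pull f).obj F)) := by
  rw [isZero_Rpush_iff]
  intro W ξ w
  obtain ⟨W₁, k₁, w₁, hw₁, hW₁⟩ := hB W w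
  obtain ⟨η, hη⟩ := h W₁ hW₁ (cmpP f F W₁ (m + 1)
    (res ((EtCoh.pull f).obj F) (mm f k₁) (mm_pr f k₁) (m + 1) ξ))
  obtain ⟨W₂, k₂, w₂, hw₂, h0⟩ := exists_res_eq_zero m F W₁ η w₁
  have e₂ : mm f k₂ ≫ pr f W₁ ≫ f = pr f W₂ ≫ f := by rw [← Category.assoc, mm_pr]
  have e₃ : mm f k₂ ≫ mm f k₁ = mm f (k₂ ≫ k₁) := by
    rw [mm, mm, mm, Functor.map_comp]
    rfl
  refine ⟨W₂, k₂ ≫ k₁, w₂, ?_, ?_⟩
  · have : (k₂ ≫ k₁).left w₂ = k₁.left (k₂.left w₂) := Scheme.Hom.comp_apply k₂.left k₁.left w₂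
    rw [this, hw₂, hw₁]
  · apply (cmpP_bijective f F W₂ (m + 1)).1
    rw [map_zero, ← res_res ((EtCoh.pull f).obj F) (mm f k₁) (mm_pr f k₁) (mm f k₂) (mm_pr f k₂)
      (mm f (k₂ ≫ k₁)) e₃ (mm_pr f (k₂ ≫ k₁)) (m + 1) ξ, ← res_cmpP f F k₂ (m + 1) e₂, ← hη,
      cW_res f F k₂ (m + 1) η e₂, h0, map_zero]

/-! ### The unit -/

theorem isIso_unitApp (F : EtCoh.Ab Y) (W : Y.Etale) (h : Function.Bijective (cW f F W 0)) :
    Function.Bijective (((EtCoh.pullPushAdj f).unit.app F).hom.app (op W)) := by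
  rw [bijective_cW_iff, bijective_hp_zero_iff, bijective_unitSec_iff] at h
  have hw : (pW f W : (Scheme.Etale.mk (pr f W)).left ⟶ (Scheme.Etale.mk W.hom).left) ≫
      (Scheme.Etale.mk W.hom).hom = (Scheme.Etale.mk (pr f W)).hom ≫ f := pW_hom f W
  have h1 : IsIso (Etcore.SecPull.sq f F (V := Scheme.Etale.mk W.hom) (W := Scheme.Etale.mk (pr f W))
      (pW f W) hw) :=
    Etcore.SecPull.sq_isIso_of_factor f (pr f W) (pW f W) W.hom (pW_hom f W).symm F h hw
  have h2 : IsIso (Etcore.SecPull.liftBC f (V := W) (W := (EtCoh.bc f).obj W) (pW f W) (pW_hom f W)) := by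
    have : Etcore.SecPull.liftBC f (V := W) (W := (EtCoh.bc f).obj W) (pW f W) (pW_hom f W) = 𝟙 _ :=
      Etcore.SecPull.ext_toFst f ((Etcore.SecPull.toFst_liftBC f _ _).trans
        (Category.id_comp _).symm)
    rw [this]
    infer_instance
  have h3 : IsIso (Etcore.SecPull.sq f F (V := W) (W := (EtCoh.bc f).obj W) (pW f W) (pW_hom f W)) := h1
  have h4 : IsIso (Etcore.SecPull.unitApp f F W ≫ ((EtCoh.pull f).obj F).obj.map
      (Etcore.SecPull.liftBC f (V := W) (W := (EtCoh.bc f).obj W) (pW f W) (pW_hom f W)).op) := h3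
  have h5 : IsIso (Etcore.SecPull.unitApp f F W) := IsIso.of_isIso_comp_right _
    (((EtCoh.pull f).obj F).obj.map
      (Etcore.SecPull.liftBC f (V := W) (W := (EtCoh.bc f).obj W) (pW f W) (pW_hom f W)).op)
  exact (ConcreteCategory.isIso_iff_bijective _).1 h5

theorem isIso_unit_of_cofinal {B : Y.Etale → Prop} (hB : Cofinal B) (F : EtCoh.Ab Y)
    (h : ∀ W : Y.Etale, B W → Function.Bijective (cW f F W 0)) :
    IsIso ((EtCoh.pullPushAdj f).unit.app F) :=
  isIso_of_bijective_cofinal hB _ fun W hW => isIso_unitApp f F W (h W hW)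

end Groth.Agent.Etbc.H228.Converse
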