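import Groth.Agent.Etcore.HpullComp
import Groth.Agent.Etcore.Torsion
import Groth.Agent.S0101
import Groth.Prelude.Def_EtAcyc

/-!
# `EtAcyc.CompN` and isomorphisms; pullback of `L`-torsion sheaves

* `compN_iso_comp_iff`: `CompN (e ≫ g) L n ↔ CompN g L n` for an isomorphism `e`.
* `isLTorsion_pull`, `isLTorsion_of_iso`.
* `CompN.mono`, `IsAcyclicN.mono`: smaller `n`.
-/

set_option autoImplicit false
universe u
open CategoryTheory CategoryTheory.Limits AlgebraicGeometry Opposite Abelian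
open scoped Groth.Agent.Etcore.EtInst
open Groth.Agent.Etcore.EtInst

namespace Groth.Agent.Etbc.H228.IsoComp

open Groth.Agent Groth.Agent.Etcore.HpullCalc

variable {X X' Y : Scheme.{u}}

theorem coe_hp_comp_iso (e : X' ⟶ X) [IsIso e] (g : X ⟶ Y) (h : X' ⟶ Y) (w : e ≫ g = h)
    [PreservesFiniteLimits (EtCoh.pull e)] [PreservesFiniteLimits (EtCoh.pull g)]
    [PreservesFiniteLimits (EtCoh.pull h)] (F : EtCoh.Ab Y) (n : ℕ) :
    ⇑(hp h F n) = ⇑(hpVia e g h w F n) ∘ ⇑(hp g F n) :=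
  funext fun x => (hpVia_hp e g h w F n x).symm

theorem hp_iso_comp (e : X' ⟶ X) [IsIso e] (g : X ⟶ Y) (h : X' ⟶ Y) (w : e ≫ g = h)
    [PreservesFiniteLimits (EtCoh.pull g)]
    [PreservesFiniteLimits (EtCoh.pull h)] (F : EtCoh.Ab Y) (n : ℕ) :
    (Function.Injective (hp h F n) ↔ Function.Injective (hp g F n)) ∧
    (Function.Surjective (hp h F n) ↔ Function.Surjective (hp g F n)) := by
  have := Groth.Agent.S0101.result e
  have h1 : Function.Bijective (hpVia e g h w F n) :=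
    (bijective_hpVia_iff e g h w F n).2 (bijective_hp_of_isIso e _ n)
  rw [coe_hp_comp_iso e g h w F n]
  exact ⟨Function.Injective.of_comp_iff h1.1 _, Function.Surjective.of_comp_iff' h1 _⟩

theorem injective_Hpull_iso_comp (e : X' ⟶ X) [IsIso e] (g : X ⟶ Y) (h : X' ⟶ Y) (w : e ≫ g = h)
    [PreservesFiniteLimits (EtCoh.pull g)] [PreservesFiniteLimits (EtCoh.pull h)]
    (F : EtCoh.Ab Y) (n : ℕ) :
    Function.Injective (EtCore.Hpull h F n) ↔ Function.Injective (EtCore.Hpull g F n) :=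
  (hp_iso_comp e g h w F n).1

theorem surjective_Hpull_iso_comp (e : X' ⟶ X) [IsIso e] (g : X ⟶ Y) (h : X' ⟶ Y) (w : e ≫ g = h)
    [PreservesFiniteLimits (EtCoh.pull g)] [PreservesFiniteLimits (EtCoh.pull h)]
    (F : EtCoh.Ab Y) (n : ℕ) :
    Function.Surjective (EtCore.Hpull h F n) ↔ Function.Surjective (EtCore.Hpull g F n) :=
  (hp_iso_comp e g h w F n).2

theorem bijective_Hpull_iso_comp (e : X' ⟶ X) [IsIso e] (g : X ⟶ Y) (h : X' ⟶ Y) (w : e ≫ g = h)
    [PreservesFiniteLimits (EtCoh.pull g)] [PreservesFiniteLimits (EtCoh.pull h)]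
    (F : EtCoh.Ab Y) (n : ℕ) :
    Function.Bijective (EtCore.Hpull h F n) ↔ Function.Bijective (EtCore.Hpull g F n) :=
  (injective_Hpull_iso_comp e g h w F n).and (surjective_Hpull_iso_comp e g h w F n)

theorem compN_of_iso_comp {e : X' ⟶ X} [IsIso e] {g : X ⟶ Y} {h : X' ⟶ Y} (w : e ≫ g = h)
    {L : Set ℕ} {n : ℕ} (H : EtAcyc.CompN g L n) : EtAcyc.CompN h L n := by
  intro F hF _
  have := Groth.Agent.S0101.result g
  obtain ⟨H1, H2⟩ := H F hF
  exact ⟨fun q hq => (bijective_Hpull_iso_comp e g h w F q).2 (H1 q hq),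
    (injective_Hpull_iso_comp e g h w F (n + 1)).2 H2⟩

theorem compN_iso_comp_iff {e : X' ⟶ X} [IsIso e] {g : X ⟶ Y} {h : X' ⟶ Y} (w : e ≫ g = h)
    {L : Set ℕ} {n : ℕ} : EtAcyc.CompN h L n ↔ EtAcyc.CompN g L n := by
  refine ⟨fun H => ?_, fun H => compN_of_iso_comp w H⟩
  have w' : inv e ≫ h = g := by rw [← w, IsIso.inv_hom_id_assoc]
  exact compN_of_iso_comp w' H

/-! ### `L`-torsion sheaves -/

theorem isLTorsion_iff_stalk (L : Set ℕ) (F : EtCoh.Ab Y) :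
    EtAcyc.IsLTorsion L F ↔
      ∀ (Ω : Type u) [Field Ω] [IsSepClosed Ω] (ξ : Spec (CommRingCat.of Ω) ⟶ Y)
      (t : (EtCoh.stalk ξ).obj F), ∃ n : ℕ, EtAcyc.PrimesIn L n ∧ n • t = 0 :=
  Etcore.Torsion.local_iff_stalk (fun n => EtAcyc.PrimesIn L n) F

/-- The inverse image of an `L`-torsion sheaf is `L`-torsion. -/
theorem isLTorsion_pull (f : X ⟶ Y) (L : Set ℕ) (F : EtCoh.Ab Y) (hF : EtAcyc.IsLTorsion L F) :
    EtAcyc.IsLTorsion L ((EtCoh.pull f).obj F) := by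
  rw [isLTorsion_iff_stalk] at hF ⊢
  exact Etcore.Torsion.stalk_prop_pull _ f F hF

theorem isLTorsion_of_iso {L : Set ℕ} {F G : EtCoh.Ab Y} (e : F ≅ G) (hF : EtAcyc.IsLTorsion L F) :
    EtAcyc.IsLTorsion L G := by
  intro U s x
  obtain ⟨V, g, m, hv, hm, h0⟩ := hF U (e.inv.hom.app (op U) s) x
  refine ⟨V, g, m, hv, hm, ?_⟩
  have h1 : F.obj.map g.op (e.inv.hom.app (op U) s) = e.inv.hom.app (op V) (G.obj.map g.op s) :=
    (ConcreteCategory.congr_hom (e.inv.hom.naturality g.op) s).symm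
  rw [h1, ← map_nsmul] at h0
  have h2 := congrArg (e.hom.hom.app (op V)) h0
  rw [map_zero] at h2
  have h3 := congrArg (fun k => k.hom.app (op V) (m • G.obj.map g.op s)) e.inv_hom_id
  exact h3.symm.trans h2

/-! ### Smaller `n` -/

theorem compN_mono {g : X ⟶ Y} {L : Set ℕ} {n m : ℕ} (hmn : m ≤ n) (H : EtAcyc.CompN g L n) :
    EtAcyc.CompN g L m := by
  intro F hF _
  obtain ⟨H1, H2⟩ := H F hF
  refine ⟨fun q hq => H1 q (hq.trans hmn), ?_⟩
  rcases Nat.lt_or_ge m n with h | h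
  · exact (H1 (m + 1) h).1
  · obtain rfl : m = n := le_antisymm hmn h
    exact H2

theorem isAcyclicN_mono {g : X ⟶ Y} {L : Set ℕ} {n m : ℕ} (hmn : m ≤ n)
    (H : EtAcyc.IsAcyclicN g L n) : EtAcyc.IsAcyclicN g L m :=
  fun V => compN_mono hmn (H V)

end Groth.Agent.Etbc.H228.IsoComp
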