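import Groth.Agent.Sga4B.AcycCmp
import Groth.Agent.EtpbcB.EdgeLemma

/-!
# Truncated degenerate Leray

`L ⊣ G`, `L` exact.  If `R^q G K = 0` for `1 ≤ q ≤ n` then the edge map
`psi : Ext P (G K) m → Ext (L P) K m` is bijective for `m ≤ n` and injective for `m = n + 1`
(`psi_low`).  If moreover `K = L F` and the unit `F ⟶ G L F` is an isomorphism then
`Ext P F m → Ext B (L F) m` (`b : B ≅ L P`) is bijective for `m ≤ n` and injective for `m = n + 1`
(`cmp_low`).
-/

set_option autoImplicit false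

universe w w' v v' u u'

open CategoryTheory CategoryTheory.Limits CategoryTheory.Abelian

namespace Groth.Agent.Etbc.H228.LowEdge

open Groth.Agent.EtpbcB.Acyc Groth.Agent.EtpbcB.RDerLES Groth.Agent.Sga4B
open Groth.Agent.Sga4B.AcycCmp

variable {C : Type u} [Category.{v} C] [Abelian C]
variable {D : Type u'} [Category.{v'} D] [Abelian D]

section Van

variable [HasInjectiveResolutions D]

/-- `R^q G K = 0` for `1 ≤ q ≤ n`. -/
def Van (G : D ⥤ C) [G.Additive] (n : ℕ) (K : D) : Prop :=
  ∀ q : ℕ, 1 ≤ q → q ≤ n → IsZero ((G.rightDerived q).obj K)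

variable {G : D ⥤ C} [G.Additive]

theorem Van.mono {n m : ℕ} {K : D} (h : Van G n K) (hmn : m ≤ n) : Van G m K :=
  fun q hq hqm => h q hq (hqm.trans hmn)

theorem van_zero (K : D) : Van G 0 K := fun q hq hq0 => absurd hq0 (by omega)

theorem van_of_acyclic {K : D} (h : Acyclic G K) (n : ℕ) : Van G n K := fun q hq _ => h q hq

theorem Van.of_iso {n : ℕ} {K K' : D} (h : Van G n K) (e : K ≅ K') : Van G n K' :=
  fun q hq hqn => (h q hq hqn).of_iso ((G.rightDerived q).mapIso e.symm)

theorem Van.right {n : ℕ} {S : ShortComplex D} (hS : S.ShortExact) (h₁ : Van G (n + 1) S.X₁)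
    (h₂ : Van G n S.X₂) : Van G n S.X₃ :=
  fun q hq hqn => isZero_right G hS q (h₂ q hq hqn) (h₁ (q + 1) (by omega) (by omega))

theorem Van.map_shortExact [PreservesFiniteLimits G] {n : ℕ} {S : ShortComplex D}
    (hS : S.ShortExact) (h₁ : Van G (n + 1) S.X₁) : (S.map G).ShortExact := by
  have hepi : Epi (G.map S.g) := epi_map_g G hS (h₁ 1 le_rfl (by omega))
  have := hS.mono_f
  exact { exact := hS.exact.map_of_mono_of_preservesKernel G inferInstance inferInstance
          mono_f := inferInstanceAs (Mono (G.map S.f))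
          epi_g := hepi }

end Van

variable [HasExt.{w} C] [HasExt.{w'} D]
variable {L : C ⥤ D} {G : D ⥤ C} [L.Additive] [PreservesFiniteLimits L] [PreservesFiniteColimits L]
  (adj : L ⊣ G)

/-- The edge map is bijective in degree zero. -/
theorem psi_zero_bijective (P : C) (K : D) : Function.Bijective (psi.{w, w'} adj P K 0) := by
  constructor
  · intro a b hab
    obtain ⟨a, rfl⟩ := (Ext.mk₀_bijective _ _).2 a
    obtain ⟨b, rfl⟩ := (Ext.mk₀_bijective _ _).2 b
    rw [psi_mk₀, psi_mk₀] at hab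
    rw [(adj.homEquiv P K).symm.injective ((Ext.mk₀_bijective _ _).1 hab)]
  · intro e
    obtain ⟨f, rfl⟩ := (Ext.mk₀_bijective _ _).2 e
    exact ⟨Ext.mk₀ (adj.homEquiv P K f), by rw [psi_mk₀, Equiv.symm_apply_apply]⟩

variable [G.Additive]

/-- The edge map is injective in degree one. -/
theorem psi_one_injective [EnoughInjectives D] (P : C) (K : D) :
    Function.Injective (psi.{w, w'} adj P K 1) := by
  have : PreservesFiniteLimits G :=
    have : PreservesLimitsOfSize.{0, 0} G := adj.rightAdjoint_preservesLimits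
    PreservesLimitsOfSize.preservesFiniteLimits _
  let I : InjectivePresentation K := Classical.arbitrary _
  let S := ShortComplex.mk _ _ (cokernel.condition I.f)
  have hI : Injective S.X₂ := I.injective
  have hS : S.ShortExact := { exact := ShortComplex.exact_cokernel I.f }
  have hRI := EtpbcB.EdgeLemma.injective_R adj S.X₂
  rw [injective_iff_map_eq_zero]
  intro x hx
  obtain ⟨e, rfl⟩ := Ext.covariant_sequence_exact₁ P
    (EtpbcB.EdgeLemma.shortExact_T (R := G) hS) x
    (Ext.eq_zero_of_injective _) (rfl : 0 + 1 = 1)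
  obtain ⟨e, rfl⟩ := (Ext.mk₀_bijective _ _).2 e
  have h1 := (EtpbcB.EdgeLemma.edge_delta adj hS P 0 (Ext.mk₀ e)).symm.trans hx
  rw [Ext.mk₀_comp_mk₀, EtpbcB.EdgeLemma.edge_mk₀] at h1
  obtain ⟨u, hu⟩ := Ext.covariant_sequence_exact₃ (L.obj P) hS _ (rfl : 0 + 1 = 1) h1
  obtain ⟨u, rfl⟩ := (Ext.mk₀_bijective _ _).2 u
  rw [Ext.mk₀_comp_mk₀] at hu
  have hu2 := (Ext.mk₀_bijective _ _).1 hu
  have hu3 : (adj.homEquiv P S.X₂ u) ≫ G.map S.g = e ≫ EtpbcB.EdgeLemma.kap G S := by
    rw [← adj.homEquiv_naturality_right, hu2, Equiv.apply_symm_apply]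
  have := EtpbcB.EdgeLemma.mono_kap (R := G) hS
  have hu4 : adj.homEquiv P S.X₂ u ≫ cokernel.π (G.map S.f) = e := by
    rw [← cancel_mono (EtpbcB.EdgeLemma.kap G S), Category.assoc, EtpbcB.EdgeLemma.π_kap, hu3]
  rw [← hu4, ← Ext.mk₀_comp_mk₀, Ext.comp_assoc_of_second_deg_zero]
  have h5 : (Ext.mk₀ (cokernel.π (G.map S.f))).comp
      (EtpbcB.EdgeLemma.shortExact_T (R := G) hS).extClass (zero_add 1) = 0 :=
    (EtpbcB.EdgeLemma.shortExact_T (R := G) hS).comp_extClass
  rw [h5, Ext.comp_zero]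

/-- **Truncated degenerate Leray**. -/
theorem psi_low [HasInjectiveResolutions D] [EnoughInjectives D] (P : C) (n : ℕ) :
    ∀ (K : D), Van G n K → (∀ m, m ≤ n → Function.Bijective (psi.{w, w'} adj P K m)) ∧
      Function.Injective (psi.{w, w'} adj P K (n + 1)) := by
  have : PreservesFiniteLimits G :=
    have : PreservesLimitsOfSize.{0, 0} G := adj.rightAdjoint_preservesLimits
    PreservesLimitsOfSize.preservesFiniteLimits _
  induction n with
  | zero =>
    intro K _
    refine ⟨fun m hm => ?_, psi_one_injective adj P K⟩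
    obtain rfl : m = 0 := by omega
    exact psi_zero_bijective adj P K
  | succ n ih =>
    intro K hK
    let I : InjectivePresentation K := Classical.arbitrary _
    let S := ShortComplex.mk _ _ (cokernel.condition I.f)
    have hI : Injective S.X₂ := I.injective
    have hS : S.ShortExact := { exact := ShortComplex.exact_cokernel I.f }
    have hAI : Van G n S.X₂ := van_of_acyclic (acyclic_of_injective G S.X₂) n
    have hAQ : Van G n S.X₃ := Van.right hS hK hAI
    have hGS : (S.map G).ShortExact := Van.map_shortExact hS hK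
    have : L.PreservesMonomorphisms := inferInstance
    have hGI : Injective (S.map G).X₂ := Injective.injective_of_adjoint adj S.X₂
    obtain ⟨ihb, ihi⟩ := ih S.X₃ hAQ
    have hcomp : ∀ (m : ℕ) (z'' : Ext P (S.map G).X₂ m), Ext.comp (Ext.comp z''
        (Ext.mk₀ (S.map G).g) (add_zero m)) hGS.extClass (rfl : m + 1 = m + 1) = 0 := by
      intro m z''
      have h3 : Ext.comp (Ext.mk₀ (S.map G).g) hGS.extClass (zero_add 1) = 0 := hGS.comp_extClass
      rw [Ext.comp_assoc_of_second_deg_zero, h3, Ext.comp_zero]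
    -- the lifting property for the injective term
    have hI2 : ∀ (m : ℕ) (z : Ext (L.obj P) S.X₂ m), ∃ z', psi.{w, w'} adj P S.X₂ m z' = z := by
      intro m z
      rcases Nat.eq_zero_or_pos m with rfl | hm
      · exact (psi_zero_bijective adj P S.X₂).2 z
      · obtain ⟨m, rfl⟩ : ∃ r, m = r + 1 := ⟨m - 1, by omega⟩
        exact ⟨0, by rw [map_zero]; exact (Ext.eq_zero_of_injective z).symm⟩
    have hinj : ∀ m, Function.Injective (psi.{w, w'} adj P S.X₃ m) →
        Function.Injective (psi.{w, w'} adj P K (m + 1)) := by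
      intro m hm
      rw [injective_iff_map_eq_zero]
      intro e he
      obtain ⟨y, rfl⟩ := Ext.covariant_sequence_exact₁ P hGS e (Ext.eq_zero_of_injective _)
        (rfl : m + 1 = m + 1)
      have h1 := (psi_extClass adj hS hGS (rfl : m + 1 = m + 1) y).symm.trans he
      obtain ⟨z, hz⟩ := Ext.covariant_sequence_exact₃ (L.obj P) hS (psi adj P S.X₃ m y)
        (rfl : m + 1 = m + 1) h1
      obtain ⟨z', rfl⟩ := hI2 m z
      rw [← psi_postcomp] at hz
      have h2 := hm hz
      have h5 : Ext.comp z' (Ext.mk₀ (S.map G).g) (add_zero m) = y := h2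
      rw [← h5]
      exact hcomp m z'
    have hsurj : ∀ m, Function.Surjective (psi.{w, w'} adj P S.X₃ m) →
        Function.Surjective (psi.{w, w'} adj P K (m + 1)) := by
      intro m hm x
      obtain ⟨y, rfl⟩ := Ext.covariant_sequence_exact₁ (L.obj P) hS x (Ext.eq_zero_of_injective _)
        (rfl : m + 1 = m + 1)
      obtain ⟨y', rfl⟩ := hm y
      exact ⟨Ext.comp y' hGS.extClass rfl, psi_extClass adj hS hGS rfl y'⟩
    refine ⟨fun m hm => ?_, hinj (n + 1) ihi⟩
    rcases Nat.eq_zero_or_pos m with rfl | hm0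
    · exact psi_zero_bijective adj P K
    · obtain ⟨m, rfl⟩ : ∃ r, m = r + 1 := ⟨m - 1, by omega⟩
      exact ⟨hinj m (ihb m (by omega)).1, hsurj m (ihb m (by omega)).2⟩

section cmp

variable [HasInjectiveResolutions D] [EnoughInjectives D] {P : C} {B : D}
    (b : B ⟶ L.obj P) [IsIso b] (F : C)

omit [G.Additive] [HasInjectiveResolutions D] [EnoughInjectives D] [IsIso b] in
theorem cmp_eq (n : ℕ) (e : Ext.{w} P F n) : ExtCmp.cmp.{w, w'} L b F n e =
    (Ext.mk₀ b).comp (psi adj P (L.obj F) n (e.comp (Ext.mk₀ (adj.unit.app F)) (add_zero n)))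
      (zero_add n) := by
  rw [ExtCmp.cmp_apply, psi_apply, Ext.mapExactFunctor_comp, Ext.mapExactFunctor_mk₀,
    Ext.comp_assoc_of_third_deg_zero, Ext.mk₀_comp_mk₀, adj.left_triangle_components,
    Ext.comp_mk₀_id]

omit [Abelian D] [G.Additive] [HasInjectiveResolutions D] [EnoughInjectives D]
  [PreservesFiniteLimits L] [PreservesFiniteColimits L] [L.Additive] [HasExt.{w'} D] in
theorem postcomp_unit_bijective [IsIso (adj.unit.app F)] (n : ℕ) :
    Function.Bijective (fun e : Ext.{w} P F n =>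
      e.comp (Ext.mk₀ (adj.unit.app F)) (add_zero n)) :=
  Function.bijective_iff_has_inverse.2
    ⟨fun e => e.comp (Ext.mk₀ (inv (adj.unit.app F))) (add_zero n), fun e => by
      dsimp only
      rw [Ext.comp_assoc_of_third_deg_zero, Ext.mk₀_comp_mk₀, IsIso.hom_inv_id, Ext.comp_mk₀_id],
    fun e => by
      dsimp only
      rw [Ext.comp_assoc_of_third_deg_zero, Ext.mk₀_comp_mk₀, IsIso.inv_hom_id, Ext.comp_mk₀_id]⟩

omit [Abelian C] [G.Additive] [HasInjectiveResolutions D] [EnoughInjectives D]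
  [PreservesFiniteLimits L] [PreservesFiniteColimits L] [L.Additive] [HasExt.{w} C] in
theorem precomp_iso_bijective (K : D) (n : ℕ) :
    Function.Bijective (fun e : Ext.{w'} (L.obj P) K n => (Ext.mk₀ b).comp e (zero_add n)) :=
  Function.bijective_iff_has_inverse.2
    ⟨fun e => (Ext.mk₀ (inv b)).comp e (zero_add n), fun e => by
      dsimp only
      rw [← Ext.comp_assoc_of_second_deg_zero, Ext.mk₀_comp_mk₀, IsIso.inv_hom_id, Ext.mk₀_id_comp],
    fun e => by
      dsimp only
      rw [← Ext.comp_assoc_of_second_deg_zero, Ext.mk₀_comp_mk₀, IsIso.hom_inv_id, Ext.mk₀_id_comp]⟩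

/-- If the unit `F ⟶ G L F` is an isomorphism and `R^q G (L F) = 0` for `1 ≤ q ≤ n` then
`Ext P F m → Ext B (L F) m` is bijective for `m ≤ n` and injective for `m = n + 1`. -/
theorem cmp_low [IsIso (adj.unit.app F)] (n : ℕ) (hF : Van G n (L.obj F)) :
    (∀ m, m ≤ n → Function.Bijective (ExtCmp.cmp.{w, w'} L b F m)) ∧
      Function.Injective (ExtCmp.cmp.{w, w'} L b F (n + 1)) := by
  obtain ⟨h1, h2⟩ := psi_low.{w, w'} adj P n (L.obj F) hF
  have h5 (m : ℕ) : (ExtCmp.cmp.{w, w'} L b F m : Ext.{w} P F m → Ext.{w'} B (L.obj F) m) =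
      (fun e => (Ext.mk₀ b).comp e (zero_add m)) ∘ (psi adj P (L.obj F) m) ∘
        (fun e => e.comp (Ext.mk₀ (adj.unit.app F)) (add_zero m)) :=
    funext (cmp_eq adj b F m)
  refine ⟨fun m hm => ?_, ?_⟩
  · rw [h5]
    exact (precomp_iso_bijective b (L.obj F) m).comp ((h1 m hm).comp
      (postcomp_unit_bijective adj F m))
  · rw [h5]
    exact (precomp_iso_bijective b (L.obj F) (n + 1)).1.comp (h2.comp
      (postcomp_unit_bijective adj F (n + 1)).1)

end cmp

end Groth.Agent.Etbc.H228.LowEdge
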